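import Cfsg.Agent.EvenType.CTwoCard
import Cfsg.Agent.SporRec.Co3.Model
import Cfsg.Agent.Schreier.McLaughlin
import Cfsg.Agent.Ly.Setup
import Cfsg.Agent.S1695
import Cfsg.Agent.S1699
import Cfsg.Agent.S1701
import Cfsg.Agent.S1074
import Cfsg.Agent.SporadicB.J1.Main
import Cfsg.Prelude.Def_Classification2
import Cfsg.Agent.Prune
set_option linter.all false

section
prune_inst 0x7f00000000000000000000000000000000000000000000000000000000000000000000000000000000000000000000000000000000000000000000000000000000000000000000000000000000000000003fffffffffffffffffffffffffffbeffbdffffffff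

-- part: NotCT/Orders
section
set_option linter.all false
open scoped Cfsg.Agent.FastGrp

/-!
# The orders of the sporadic groups and of the Tits group (helper77)
-/

set_option autoImplicit false

namespace Cfsg.Agent.NotCT.Orders

open Cfsg Cfsg.Agent.EvenType

variable {K : Type*} [Group K]

theorem m11 (h : Spor.IsoM11 K) : Nat.card K = 7920 := CTwoCard.m11 h

theorem m12 (h : Spor.IsoM12 K) : Nat.card K = 95040 := CTwoCard.m12 h

theorem m22 (h : Spor.IsoM22 K) : Nat.card K = 443520 := CTwoCard.m22 h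

theorem m23 (h : Spor.IsoM23 K) : Nat.card K = 10200960 := CTwoCard.m23 h

theorem m24 (h : Spor.IsoM24 K) : Nat.card K = 244823040 := CTwoCard.m24 h

theorem j1 (h : Spor.IsoJ1 K) : Nat.card K = 175560 := by
  obtain ⟨e⟩ := h
  exact (Nat.card_congr e.toEquiv).trans Cfsg.Agent.SporadicB.J1.Main.isJ1.2

theorem j2 (h : Spor.IsoJ2 K) : Nat.card K = 604800 := CTwoCard.j2 h

theorem j3 (h : Spor.IsoJ3 K) : Nat.card K = 50232960 := CTwoCard.j3 h

theorem j4 (h : Spor.IsoJ4 K) : Nat.card K = 86775571046077562880 := CTwoCard.j4 h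

theorem hs (h : Spor.IsoHS K) : Nat.card K = 44352000 := CTwoCard.hs h

theorem he (h : Spor.IsoHe K) : Nat.card K = 4030387200 := by
  obtain ⟨e⟩ := h
  rw [Nat.card_congr e.toEquiv, Cfsg.Agent.S1695.result.2]

theorem mcl (h : Spor.IsoMcL K) : Nat.card K = 898128000 := by
  obtain ⟨e⟩ := h
  rw [Nat.card_congr e.toEquiv, Cfsg.Agent.Schreier.McLaughlin.card_mcl]

theorem suz (h : Spor.IsoSuz K) : Nat.card K = 448345497600 := CTwoCard.suz h

theorem ly (h : Spor.IsoLy K) : Nat.card K = 51765179004000000 := by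
  obtain ⟨e⟩ := h
  rw [Nat.card_congr e.toEquiv, Cfsg.Agent.Ly.Setup.card_ly]

theorem on (h : Spor.IsoON K) : Nat.card K = 460815505920 := by
  obtain ⟨e⟩ := h
  rw [Nat.card_congr e.toEquiv, Cfsg.Agent.S1699.result.2]

theorem ru (h : Spor.IsoRu K) : Nat.card K = 145926144000 := CTwoCard.ru h

theorem co1 (h : Spor.IsoCo1 K) : Nat.card K = 4157776806543360000 := CTwoCard.co1 h

theorem co2 (h : Spor.IsoCo2 K) : Nat.card K = 42305421312000 := CTwoCard.co2 h

theorem co3 (h : Spor.IsoCo3 K) : Nat.card K = 495766656000 := by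
  obtain ⟨e⟩ := h
  rw [Nat.card_congr (e.trans Cfsg.Agent.SporRec.Co3.Model.equivCo3.symm).toEquiv,
    Cfsg.Agent.SporRec.Co3.Chain.isCo3_G3.2]

theorem fi22 (h : Spor.IsoFi22 K) : Nat.card K = 64561751654400 := CTwoCard.fi22 h

theorem fi23 (h : Spor.IsoFi23 K) : Nat.card K = 4089470473293004800 := CTwoCard.fi23 h

theorem fi24 (h : Spor.IsoFi24' K) : Nat.card K = 1255205709190661721292800 := CTwoCard.fi24 h

theorem th (h : Spor.IsoTh K) : Nat.card K = 90745943887872000 := CTwoCard.th h

theorem hn (h : Spor.IsoHN K) : Nat.card K = 273030912000000 := by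
  obtain ⟨e⟩ := h
  rw [Nat.card_congr e.toEquiv, Cfsg.Agent.S1701.result.2]

theorem b (h : Spor.IsoB K) : Nat.card K = 4154781481226426191177580544000000 := CTwoCard.b h

theorem m (h : Spor.IsoM K) :
    Nat.card K = 808017424794512875886459904961710757005754368000000000 := CTwoCard.m h

theorem tits (h : Lie.IsoTits K) : Nat.card K = 17971200 := by
  obtain ⟨e⟩ := h
  exact ((Nat.card_congr e.toEquiv).trans Cfsg.Agent.S1074.result.2.2.2).trans (by norm_num)

end Cfsg.Agent.NotCT.Orders
end

-- part: H603/SporElim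
section
set_option linter.all false
open scoped Cfsg.Agent.FastGrp

set_option autoImplicit false

/-!
# Sporadic quotients of a group of order `n!/2` (task 71, for S4905)

Pure arithmetic with the 27 orders of the sporadic groups and the Tits group.
-/

namespace Cfsg.Agent.H603.SporElim

open Cfsg

universe u

/-- The orders. -/
def L : List ℕ :=
  [7920, 95040, 443520, 10200960, 244823040, 175560, 604800, 50232960, 86775571046077562880,
   4157776806543360000, 42305421312000, 495766656000, 898128000, 44352000, 448345497600,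
   4030387200, 145926144000, 460815505920, 51765179004000000, 64561751654400,
   4089470473293004800, 1255205709190661721292800, 273030912000000, 90745943887872000,
   4154781481226426191177580544000000,
   808017424794512875886459904961710757005754368000000000, 17971200]

open Cfsg.Agent.NotCT

theorem card_mem {K : Type*} [Group K] (h : IsSporadicGroup K ∨ Lie.IsoTits K) :
    Nat.card K ∈ L := by
  rcases h with h | h
  · rcases h with h | h | h | h | h | h | h | h | h | h | h | h | h | h | h | h | h | h | h | h |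
      h | h | h | h | h | h
    · rw [Orders.m11 h]; simp [L]
    · rw [Orders.m12 h]; simp [L]
    · rw [Orders.m22 h]; simp [L]
    · rw [Orders.m23 h]; simp [L]
    · rw [Orders.m24 h]; simp [L]
    · rw [Orders.j1 h]; simp [L]
    · rw [Orders.j2 h]; simp [L]
    · rw [Orders.j3 h]; simp [L]
    · rw [Orders.j4 h]; simp [L]
    · rw [Orders.co1 h]; simp [L]
    · rw [Orders.co2 h]; simp [L]
    · rw [Orders.co3 h]; simp [L]
    · rw [Orders.mcl h]; simp [L]
    · rw [Orders.hs h]; simp [L]
    · rw [Orders.suz h]; simp [L]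
    · rw [Orders.he h]; simp [L]
    · rw [Orders.ru h]; simp [L]
    · rw [Orders.on h]; simp [L]
    · rw [Orders.ly h]; simp [L]
    · rw [Orders.fi22 h]; simp [L]
    · rw [Orders.fi23 h]; simp [L]
    · rw [Orders.fi24 h]; simp [L]
    · rw [Orders.hn h]; simp [L]
    · rw [Orders.th h]; simp [L]
    · rw [Orders.b h]; simp [L]
    · rw [Orders.m h]; simp [L]
  · rw [Orders.tits h]; simp [L]

/-- The four orders determine the group. -/
theorem of_card {K : Type*} [Group K] (h : IsSporadicGroup K ∨ Lie.IsoTits K) :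
    (Nat.card K = 604800 → Spor.IsoJ2 K) ∧ (Nat.card K = 443520 → Spor.IsoM22 K) ∧
      (Nat.card K = 50232960 → Spor.IsoJ3 K) ∧ (Nat.card K = 145926144000 → Spor.IsoRu K) := by
  rcases h with h | h
  · rcases h with h | h | h | h | h | h | h | h | h | h | h | h | h | h | h | h | h | h | h | h |
      h | h | h | h | h | h
    · rw [Orders.m11 h]; norm_num
    · rw [Orders.m12 h]; norm_num
    · exact ⟨by rw [Orders.m22 h]; norm_num, fun _ => h, by rw [Orders.m22 h]; norm_num,
        by rw [Orders.m22 h]; norm_num⟩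
    · rw [Orders.m23 h]; norm_num
    · rw [Orders.m24 h]; norm_num
    · rw [Orders.j1 h]; norm_num
    · exact ⟨fun _ => h, by rw [Orders.j2 h]; norm_num, by rw [Orders.j2 h]; norm_num,
        by rw [Orders.j2 h]; norm_num⟩
    · exact ⟨by rw [Orders.j3 h]; norm_num, by rw [Orders.j3 h]; norm_num, fun _ => h,
        by rw [Orders.j3 h]; norm_num⟩
    · rw [Orders.j4 h]; norm_num
    · rw [Orders.co1 h]; norm_num
    · rw [Orders.co2 h]; norm_num
    · rw [Orders.co3 h]; norm_num
    · rw [Orders.mcl h]; norm_num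
    · rw [Orders.hs h]; norm_num
    · rw [Orders.suz h]; norm_num
    · rw [Orders.he h]; norm_num
    · exact ⟨by rw [Orders.ru h]; norm_num, by rw [Orders.ru h]; norm_num,
        by rw [Orders.ru h]; norm_num, fun _ => h⟩
    · rw [Orders.on h]; norm_num
    · rw [Orders.ly h]; norm_num
    · rw [Orders.fi22 h]; norm_num
    · rw [Orders.fi23 h]; norm_num
    · rw [Orders.fi24 h]; norm_num
    · rw [Orders.hn h]; norm_num
    · rw [Orders.th h]; norm_num
    · rw [Orders.b h]; norm_num
    · rw [Orders.m h]; norm_num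
  · rw [Orders.tits h]; norm_num

/-- Depth first search over the choices of orders. -/
def search (N : ℕ) (g : List ℕ → Bool) : List ℕ → List ℕ → ℕ → Bool
  | [], acc, _ => g acc
  | r :: ps, acc, P => L.all fun t =>
      !(t % r == 0) || (if acc.contains t then search N g ps acc P
        else (!(N % (P * t) == 0)) || search N g ps (t :: acc) (P * t))

theorem search_sound (N : ℕ) (g : List ℕ → Bool) : ∀ (ps acc : List ℕ) (P : ℕ),
    search N g ps acc P = true → ∀ (f : ℕ → ℕ), (∀ r ∈ ps, f r ∈ L ∧ r ∣ f r) → P = acc.prod →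
    acc.Nodup → (∀ l : List ℕ, l.Nodup → (∀ x ∈ l, x ∈ acc ∨ ∃ r ∈ ps, f r = x) → l.prod ∣ N) →
    ∃ l : List ℕ, (∀ x ∈ l, x ∈ acc ∨ ∃ r ∈ ps, f r = x) ∧ g l = true := by
  intro ps
  induction ps with
  | nil =>
    intro acc P h f _ _ _ _
    exact ⟨acc, fun x hx => Or.inl hx, h⟩
  | cons r ps ih =>
    intro acc P h f hf hP hnd hdiv
    have hfr := hf r (List.mem_cons_self)
    rw [search, List.all_eq_true] at h
    have ht := h (f r) hfr.1
    rw [Nat.mod_eq_zero_of_dvd hfr.2] at ht
    simp only [beq_self_eq_true, Bool.not_true, Bool.false_or] at ht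
    by_cases hc : f r ∈ acc
    · rw [if_pos (by simpa using hc)] at ht
      obtain ⟨l, hl, hgl⟩ := ih acc P ht f (fun s hs => hf s (List.mem_cons_of_mem _ hs)) hP hnd
        (fun l hl hl2 => hdiv l hl fun x hx => by
          rcases hl2 x hx with h1 | ⟨s, hs, h1⟩
          · exact Or.inl h1
          · exact Or.inr ⟨s, List.mem_cons_of_mem _ hs, h1⟩)
      refine ⟨l, fun x hx => ?_, hgl⟩
      rcases hl x hx with h1 | ⟨s, hs, h1⟩
      · exact Or.inl h1
      · exact Or.inr ⟨s, List.mem_cons_of_mem _ hs, h1⟩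
    · rw [if_neg (by simpa using hc)] at ht
      have hnd' : (f r :: acc).Nodup := List.nodup_cons.2 ⟨hc, hnd⟩
      have hd := hdiv (f r :: acc) hnd' (fun x hx => by
        rcases List.mem_cons.1 hx with h1 | h1
        · exact Or.inr ⟨r, List.mem_cons_self, h1.symm⟩
        · exact Or.inl h1)
      rw [List.prod_cons, ← hP, mul_comm] at hd
      rw [Nat.mod_eq_zero_of_dvd hd] at ht
      simp only [beq_self_eq_true, Bool.not_true, Bool.false_or] at ht
      obtain ⟨l, hl, hgl⟩ := ih (f r :: acc) (P * f r) ht f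
        (fun s hs => hf s (List.mem_cons_of_mem _ hs))
        (by rw [List.prod_cons, hP, mul_comm]) hnd'
        (fun l hl hl2 => hdiv l hl fun x hx => by
          rcases hl2 x hx with h1 | ⟨s, hs, h1⟩
          · rcases List.mem_cons.1 h1 with h2 | h2
            · exact Or.inr ⟨r, List.mem_cons_self, h2.symm⟩
            · exact Or.inl h2
          · exact Or.inr ⟨s, List.mem_cons_of_mem _ hs, h1⟩)
      refine ⟨l, fun x hx => ?_, hgl⟩
      rcases hl x hx with h1 | ⟨s, hs, h1⟩
      · rcases List.mem_cons.1 h1 with h2 | h2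
        · exact Or.inr ⟨r, List.mem_cons_self, h2.symm⟩
        · exact Or.inl h2
      · exact Or.inr ⟨s, List.mem_cons_of_mem _ hs, h1⟩

/-- The primes used for each `n`. -/
def ps (n : ℕ) : List ℕ :=
  [73, 53, 41, 37, 31, 29, 23, 19, 17, 13, 11, 7].filter fun r => decide (n + 1 < 2 * r ∧ r ≤ n)

/-- The conclusion. -/
def goal (n : ℕ) (acc : List ℕ) : Bool :=
  (n == 10 && acc.contains 604800) || ((n == 11 || n == 12) && acc.contains 443520) ||
  ((n == 22 || n == 25 || n == 26 || n == 27 || n == 28) && acc.contains 50232960) ||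
  ((n == 35 || n == 36) && acc.contains 145926144000)

theorem search_all : ((List.range 135).all fun i =>
    search ((i + 10).factorial / 2) (goal (i + 10)) (ps (i + 10)) [] 1) = true := by
  decide +kernel

theorem ps_spec {n r : ℕ} (h : r ∈ ps n) : r.Prime ∧ n + 1 < 2 * r ∧ r ≤ n := by
  have h1 := List.mem_filter.1 h
  refine ⟨?_, by simpa using h1.2⟩
  have h2 := h1.1
  simp only [List.mem_cons, List.not_mem_nil, or_false] at h2
  rcases h2 with rfl | rfl | rfl | rfl | rfl | rfl | rfl | rfl | rfl | rfl | rfl | rfl <;> norm_num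

theorem L_dvd : ∀ t ∈ L, t ∣ (71).factorial := by
  have : (L.all fun t => (71).factorial % t == 0) = true := by decide +kernel
  intro t ht
  have h1 := List.all_eq_true.1 this t ht
  exact Nat.dvd_of_mod_eq_zero (by simpa using h1)

theorem spor_elim {n : ℕ} (hn : 10 ≤ n) {H : Type u} [Group H] [Finite H]
    (hN : 2 * Nat.card H = n.factorial)
    (hM : ∀ r : ℕ, r.Prime → n + 1 < 2 * r → r ≤ n → ∃ M : Subgroup H, ∃ _ : M.Normal,
      IsSimpleGroup (H ⧸ M) ∧ ¬ IsMulCommutative (H ⧸ M) ∧ r ∣ Nat.card (H ⧸ M) ∧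
      (IsSporadicGroup (H ⧸ M) ∨ Lie.IsoTits (H ⧸ M)))
    (hdvd : ∀ s : Finset (Subgroup H), (∀ M ∈ s, ∃ _ : M.Normal, IsSimpleGroup (H ⧸ M) ∧
      ¬ IsMulCommutative (H ⧸ M)) → ∏ M ∈ s, M.index ∣ Nat.card H) :
    ∃ M : Subgroup H, ∃ _ : M.Normal, (n = 10 ∧ Spor.IsoJ2 (H ⧸ M)) ∨
      ((n = 11 ∨ n = 12) ∧ Spor.IsoM22 (H ⧸ M)) ∨
      ((n = 22 ∨ n = 25 ∨ n = 26 ∨ n = 27 ∨ n = 28) ∧ Spor.IsoJ3 (H ⧸ M)) ∨
      ((n = 35 ∨ n = 36) ∧ Spor.IsoRu (H ⧸ M)) := by
  classical
  have hle : n ≤ 144 := by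
    by_contra hlt
    push Not at hlt
    obtain ⟨r, hr, h1, h2⟩ : ∃ r : ℕ, r.Prime ∧ n + 1 < 2 * r ∧ r ≤ n := by
      rcases Nat.even_or_odd' n with ⟨m, rfl | rfl⟩
      · obtain ⟨r, hr, h1, h2⟩ := Nat.exists_prime_lt_and_le_two_mul m (by omega)
        exact ⟨r, hr, by omega, by omega⟩
      · obtain ⟨r, hr, h1, h2⟩ := Nat.exists_prime_lt_and_le_two_mul (m + 1) (by omega)
        refine ⟨r, hr, by omega, ?_⟩
        have h3 : r ≠ 2 * (m + 1) := by
          rintro rfl
          have := (Nat.prime_mul_iff.1 hr)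
          omega
        omega
    obtain ⟨M, hMn, _, _, hd, hsp⟩ := hM r hr h1 h2
    have h3 := hd.trans (L_dvd _ (card_mem hsp))
    have h4 := (Nat.Prime.dvd_factorial hr).1 h3
    omega
  have hs := List.all_eq_true.1 search_all (n - 10) (by rw [List.mem_range]; omega)
  have hn10 : n - 10 + 10 = n := by omega
  rw [hn10] at hs
  have hcard : Nat.card H = n.factorial / 2 := by omega
  have hM' : ∀ r : ℕ, ∃ M : Subgroup H, r ∈ ps n → ∃ _ : M.Normal,
      IsSimpleGroup (H ⧸ M) ∧ ¬ IsMulCommutative (H ⧸ M) ∧ r ∣ Nat.card (H ⧸ M) ∧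
      (IsSporadicGroup (H ⧸ M) ∨ Lie.IsoTits (H ⧸ M)) := by
    intro r
    by_cases hr : r ∈ ps n
    · obtain ⟨h1, h2, h3⟩ := ps_spec hr
      obtain ⟨M, hM⟩ := hM r h1 h2 h3
      exact ⟨M, fun _ => hM⟩
    · exact ⟨⊥, fun h => absurd h hr⟩
  choose M hMr using hM'
  obtain ⟨l, hl, hgl⟩ := search_sound _ _ _ _ _ hs (fun r => (M r).index)
    (by
      intro r hr
      obtain ⟨hnorm, _, _, hd, hsp⟩ := hMr r hr
      exact ⟨card_mem hsp, hd⟩) (by simp) List.nodup_nil (by
      intro l hnd hl
      have hl' : ∀ x ∈ l, ∃ r ∈ ps n, (M r).index = x := fun x hx => by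
        rcases hl x hx with h | h
        · simp at h
        · exact h
      choose! R hR using hl'
      have hinj : Set.InjOn (fun x => M (R x)) (l.toFinset : Set ℕ) := by
        intro x hx y hy hxy
        have hx' : x ∈ l := by simpa using hx
        have hy' : y ∈ l := by simpa using hy
        rw [← (hR x hx').2, ← (hR y hy').2]
        exact congrArg Subgroup.index hxy
      have h1 := hdvd (l.toFinset.image fun x => M (R x)) (by
        intro K hK
        obtain ⟨x, hx, rfl⟩ := Finset.mem_image.1 hK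
        have hx' : x ∈ l := by simpa using hx
        obtain ⟨hnorm, h1, h2, _, _⟩ := hMr (R x) (hR x hx').1
        exact ⟨hnorm, h1, h2⟩)
      rw [Finset.prod_image hinj, hcard] at h1
      have h2 : ∏ x ∈ l.toFinset, (M (R x)).index = l.prod := by
        have h3 : ∏ x ∈ l.toFinset, (M (R x)).index = ∏ x ∈ l.toFinset, x := by
          refine Finset.prod_congr rfl fun x hx => ?_
          have hx' : x ∈ l := by simpa using hx
          exact (hR x hx').2
        rw [h3, List.prod_toFinset (fun x => x) hnd, List.map_id']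
      rwa [h2] at h1)
  have key : ∀ x ∈ l, ∃ r ∈ ps n, (M r).index = x := fun x hx => by
    rcases hl x hx with h | h
    · simp at h
    · exact h
  simp only [goal, Bool.or_eq_true, Bool.and_eq_true, beq_iff_eq, List.contains_iff_mem] at hgl
  rcases hgl with ((⟨h1, h2⟩ | ⟨h1, h2⟩) | ⟨h1, h2⟩) | ⟨h1, h2⟩
  · obtain ⟨r, hr, hi⟩ := key _ h2
    obtain ⟨hnorm, _, _, _, hsp⟩ := hMr r hr
    exact ⟨M r, hnorm, Or.inl ⟨h1, (of_card hsp).1 hi⟩⟩
  · obtain ⟨r, hr, hi⟩ := key _ h2
    obtain ⟨hnorm, _, _, _, hsp⟩ := hMr r hr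
    exact ⟨M r, hnorm, Or.inr (Or.inl ⟨h1, (of_card hsp).2.1 hi⟩)⟩
  · obtain ⟨r, hr, hi⟩ := key _ h2
    obtain ⟨hnorm, _, _, _, hsp⟩ := hMr r hr
    refine ⟨M r, hnorm, Or.inr (Or.inr (Or.inl ⟨by omega, (of_card hsp).2.2.1 hi⟩))⟩
  · obtain ⟨r, hr, hi⟩ := key _ h2
    obtain ⟨hnorm, _, _, _, hsp⟩ := hMr r hr
    exact ⟨M r, hnorm, Or.inr (Or.inr (Or.inr ⟨h1, (of_card hsp).2.2.2 hi⟩))⟩

end Cfsg.Agent.H603.SporElim

private theorem dce_6e9f31cdff54 : _root_.True := by
  try have : _root_.True := by simp only [_root_.Cfsg.Agent.H603.SporElim.L.eq_1]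
  try have : _root_.True := by simp only [_root_.Cfsg.Agent.H603.SporElim.goal.eq_1]
  try have : _root_.True := by simp only [_root_.Cfsg.Agent.H603.SporElim.search.eq_2]
  try have : _root_.True := by simp only [_root_.Cfsg.Agent.H603.SporElim.search.eq_def]
  try have : _root_.True := by simp only [_root_.Cfsg.Agent.H603.SporElim.search.eq_1]
  exact _root_.True.intro
end
end
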